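import Cfsg.Agent.H30.S8.Gen
import Cfsg.Agent.H840.Wd
import Cfsg.Agent.Schreier.FiTwentyFour

/-!
# `Fi24'`: an extraspecial group `3^(1+10)` and codimensions (helper597, for S4908, box [E3])

`zw` is a word for the central element `z` (class `3B`), `ls` five pairs `(u, v)` of elements of order three (class `3A`) with
`v u = u z v`, the pairs commute with one another.  Consequence: on every module without fixed points over a field of
characteristic `r ≠ 3` the index of the fixed points of `z` is at least `4 ^ 3 ^ 5 = 2 ^ 486`, that of `u` (class `3A`) at least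
`4 ^ (2 * 3 ^ 4) = 2 ^ 324`.
-/

set_option autoImplicit false
set_option maxRecDepth 100000
set_option exponentiation.threshold 5000
set_option linter.unusedSectionVars false

namespace Cfsg.Agent.H597.S8.E3

open Cfsg Cfsg.Agent.Lib.PermNet Cfsg.Agent.Lib.PermNetPt Cfsg.Agent.Fischer.Fi24RepDef Cfsg.Agent.Fischer.Fi24Rep
open Cfsg.Agent.Fischer.Fi24Spider (word_append word_cons word_nil)
open Cfsg.Agent.Fischer.Fi24Final (sgn)
open Cfsg.Agent.R08.FiTwentyFour (L mem_commutator_iff sgn_L gen_mem_L)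
open Cfsg.Agent.KFacts.FiTF.Pts Cfsg.Agent.KFacts.FiTF.FixMask
open Cfsg.Agent.H840.Wd
open Cfsg.Agent.H320.SD Cfsg.Agent.H30.S8
open Cfsg.Spor (Fi24 Fi24')
open Cfsg.Spor.Fi24 (Gen)

universe u

/-! ### words of even length -/

theorem sgn_word (w : List Gen) : sgn (word w) = (-1) ^ w.length := by
  induction w with
  | nil => rw [word_nil, map_one, List.length_nil, pow_zero]
  | cons x w ih =>
    have h1 : sgn (gen x) = -1 := sgn_L (gen_mem_L x)
    rw [word_cons, map_mul, ih, h1, List.length_cons, pow_succ', neg_one_mul]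

theorem word_mem {w : List Gen} (h : Nat.beq (w.length % 2) 0 = true) : word w ∈ commutator Fi24 := by
  rw [mem_commutator_iff, sgn_word]
  exact Even.neg_one_pow (Nat.even_iff.2 (Nat.eq_of_beq_eq_true h))

/-- the value of a word of even length in `Fi24'` -/
noncomputable def W (w : List Gen) (h : Nat.beq (w.length % 2) 0 = true) : Fi24' := ⟨word w, word_mem h⟩

/-- the central element (class `3B`) -/
def zw : List Gen := [.c, .d, .h, .i, .e, .d, .h, .f, .e, .d, .c, .d, .e, .f, .h, .d, .e, .i, .h, .d, .c, .b, .c, .d, .h, .i, .e, .d, .h, .f, .e, .d, .c, .b, .c, .d, .e, .f, .h, .d, .e, .i, .h, .d]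

def u0 : List Gen := [.h, .i]
def v0 : List Gen := [.d, .e, .c, .d, .h, .f, .e, .d, .c, .b, .c, .d, .e, .f, .h, .d, .c, .e, .d, .h]

def u1 : List Gen := [.e, .f]
def v1 : List Gen := [.d, .h, .i, .c, .d, .h, .e, .d, .c, .b, .c, .d, .e, .h, .d, .c, .i, .h, .d, .e]

def u2 : List Gen := [.c, .b]
def v2 : List Gen := [.d, .h, .i, .e, .d, .h, .f, .e, .d, .c, .d, .e, .f, .h, .d, .e, .i, .h, .d, .c]

def u3 : List Gen := [.l, .k]
def v3 : List Gen := [.a, .b, .c, .d, .h, .i, .e, .d, .h, .f, .e, .d, .c, .b, .k, .a, .k, .b, .c, .d, .e, .f, .h, .d, .e, .i, .h, .d, .c, .b, .a, .k]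

def u4 : List Gen := [.j, .g, .f, .e, .d, .h, .i, .c, .d, .h, .j, .g, .f, .e, .d, .c, .b, .c, .d, .e, .f, .g, .j, .h, .d, .c, .i, .h, .d, .e, .f, .g]
def v4 : List Gen := [.j, .g, .f, .e, .d, .h, .i, .e, .d, .h, .f, .g, .e, .f, .d, .e, .c, .d, .h, .j, .g, .f, .e, .d, .c, .b, .c, .d, .e, .f, .g, .j, .h, .d, .c, .e, .d, .f, .e, .g, .f, .h, .d, .e, .i, .h, .d, .e, .f, .g]


/-- the five pairs -/
def lw : List (List Gen × List Gen) := [(u0, v0), (u1, v1), (u2, v2), (u3, v3), (u4, v4)]

theorem ez : Nat.beq (zw.length % 2) 0 = true := by decide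

theorem eu0 : Nat.beq (u0.length % 2) 0 = true := by decide
theorem ev0 : Nat.beq (v0.length % 2) 0 = true := by decide

theorem eu1 : Nat.beq (u1.length % 2) 0 = true := by decide
theorem ev1 : Nat.beq (v1.length % 2) 0 = true := by decide

theorem eu2 : Nat.beq (u2.length % 2) 0 = true := by decide
theorem ev2 : Nat.beq (v2.length % 2) 0 = true := by decide

theorem eu3 : Nat.beq (u3.length % 2) 0 = true := by decide
theorem ev3 : Nat.beq (v3.length % 2) 0 = true := by decide

theorem eu4 : Nat.beq (u4.length % 2) 0 = true := by decide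
theorem ev4 : Nat.beq (v4.length % 2) 0 = true := by decide


/-- the central element -/
noncomputable def z : Fi24' := W zw ez

/-- the five pairs -/
noncomputable def ls : List (Fi24' × Fi24') := [(W u0 eu0, W v0 ev0), (W u1 eu1, W v1 ev1), (W u2 eu2, W v2 ev2), (W u3 eu3, W v3 ev3), (W u4 eu4, W v4 ev4)]

/-- the checks of one pair -/
noncomputable def ok3 (p : List Gen × List Gen) : Bool :=
  and (eqB (p.1 ++ (p.1 ++ p.1)) []) (and (eqB (p.1 ++ zw) (zw ++ p.1)) (and (eqB (p.2 ++ zw) (zw ++ p.2))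
    (eqB (p.2 ++ p.1) (p.1 ++ (zw ++ p.2)))))

noncomputable def okx (p q : List Gen × List Gen) : Bool :=
  and (eqB (q.1 ++ p.1) (p.1 ++ q.1)) (eqB (q.2 ++ p.1) (p.1 ++ q.2))

theorem cz : eqB (zw ++ (zw ++ zw)) [] = true := by decide +kernel
theorem cn : eqB zw [] = false := by decide +kernel

theorem c0 : ok3 (u0, v0) = true := by decide +kernel

theorem c1 : ok3 (u1, v1) = true := by decide +kernel

theorem c2 : ok3 (u2, v2) = true := by decide +kernel

theorem c3 : ok3 (u3, v3) = true := by decide +kernel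

theorem c4 : ok3 (u4, v4) = true := by decide +kernel

theorem x01 : okx (u0, v0) (u1, v1) = true := by decide +kernel

theorem x02 : okx (u0, v0) (u2, v2) = true := by decide +kernel

theorem x03 : okx (u0, v0) (u3, v3) = true := by decide +kernel

theorem x04 : okx (u0, v0) (u4, v4) = true := by decide +kernel

theorem x12 : okx (u1, v1) (u2, v2) = true := by decide +kernel

theorem x13 : okx (u1, v1) (u3, v3) = true := by decide +kernel

theorem x14 : okx (u1, v1) (u4, v4) = true := by decide +kernel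

theorem x23 : okx (u2, v2) (u3, v3) = true := by decide +kernel

theorem x24 : okx (u2, v2) (u4, v4) = true := by decide +kernel

theorem x34 : okx (u3, v3) (u4, v4) = true := by decide +kernel


theorem W_mul_eq {a b c d : List Gen} {ha : Nat.beq (a.length % 2) 0 = true} {hb : Nat.beq (b.length % 2) 0 = true}
    {hc : Nat.beq (c.length % 2) 0 = true} {hd : Nat.beq (d.length % 2) 0 = true} (h : eqB (a ++ b) (c ++ d) = true) :
    W a ha * W b hb = W c hc * W d hd := by
  apply Subtype.ext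
  show word a * word b = word c * word d
  rw [← word_append, ← word_append, eq_of_eqB h]

theorem W_cube {a : List Gen} {ha : Nat.beq (a.length % 2) 0 = true} (h : eqB (a ++ (a ++ a)) [] = true) :
    W a ha * W a ha * W a ha = 1 := by
  apply Subtype.ext
  show word a * word a * word a = 1
  rw [mul_assoc, ← word_append, ← word_append, eq_of_eqB h, word_nil]

theorem ok3_spec {p q : List Gen} {hp : Nat.beq (p.length % 2) 0 = true} {hq : Nat.beq (q.length % 2) 0 = true}
    (h : ok3 (p, q) = true) : W p hp * W p hp * W p hp = 1 ∧ W p hp * z = z * W p hp ∧ W q hq * z = z * W q hq ∧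
      W q hq * W p hp = W p hp * (z * W q hq) := by
  unfold ok3 at h
  rw [Bool.and_eq_true, Bool.and_eq_true, Bool.and_eq_true] at h
  obtain ⟨h1, h2, h3, h4⟩ := h
  refine ⟨W_cube h1, W_mul_eq h2, W_mul_eq h3, ?_⟩
  apply Subtype.ext
  show word q * word p = word p * (word zw * word q)
  rw [← word_append, ← word_append, ← word_append]
  exact eq_of_eqB h4

theorem okx_spec {p q p' q' : List Gen} {hp : Nat.beq (p.length % 2) 0 = true}
    {hp' : Nat.beq (p'.length % 2) 0 = true} {hq' : Nat.beq (q'.length % 2) 0 = true}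
    (h : okx (p, q) (p', q') = true) : W p' hp' * W p hp = W p hp * W p' hp' ∧ W q' hq' * W p hp = W p hp * W q' hq' := by
  unfold okx at h
  rw [Bool.and_eq_true] at h
  exact ⟨W_mul_eq h.1, W_mul_eq h.2⟩

/-- **The extraspecial group `3^(1+10)`.** -/
theorem tower : Tw z ls where
  z3 := W_cube cz
  u3 := by
    intro p hp
    simp only [ls, List.mem_cons, List.not_mem_nil, or_false] at hp
    rcases hp with rfl | rfl | rfl | rfl | rfl
    exacts [(ok3_spec (hp := eu0) (hq := ev0) c0).1, (ok3_spec (hp := eu1) (hq := ev1) c1).1, (ok3_spec (hp := eu2) (hq := ev2) c2).1,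
      (ok3_spec (hp := eu3) (hq := ev3) c3).1, (ok3_spec (hp := eu4) (hq := ev4) c4).1]
  uz := by
    intro p hp
    simp only [ls, List.mem_cons, List.not_mem_nil, or_false] at hp
    rcases hp with rfl | rfl | rfl | rfl | rfl
    exacts [(ok3_spec (hp := eu0) (hq := ev0) c0).2.1, (ok3_spec (hp := eu1) (hq := ev1) c1).2.1, (ok3_spec (hp := eu2) (hq := ev2) c2).2.1,
      (ok3_spec (hp := eu3) (hq := ev3) c3).2.1, (ok3_spec (hp := eu4) (hq := ev4) c4).2.1]
  vz := by
    intro p hp
    simp only [ls, List.mem_cons, List.not_mem_nil, or_false] at hp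
    rcases hp with rfl | rfl | rfl | rfl | rfl
    exacts [(ok3_spec (hp := eu0) (hq := ev0) c0).2.2.1, (ok3_spec (hp := eu1) (hq := ev1) c1).2.2.1, (ok3_spec (hp := eu2) (hq := ev2) c2).2.2.1,
      (ok3_spec (hp := eu3) (hq := ev3) c3).2.2.1, (ok3_spec (hp := eu4) (hq := ev4) c4).2.2.1]
  vu := by
    intro p hp
    simp only [ls, List.mem_cons, List.not_mem_nil, or_false] at hp
    rcases hp with rfl | rfl | rfl | rfl | rfl
    exacts [(ok3_spec (hp := eu0) (hq := ev0) c0).2.2.2, (ok3_spec (hp := eu1) (hq := ev1) c1).2.2.2,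
      (ok3_spec (hp := eu2) (hq := ev2) c2).2.2.2, (ok3_spec (hp := eu3) (hq := ev3) c3).2.2.2,
      (ok3_spec (hp := eu4) (hq := ev4) c4).2.2.2]
  pw := by
    simp only [ls, List.pairwise_cons, List.mem_cons, List.not_mem_nil, or_false, forall_eq_or_imp, forall_eq,
      false_imp_iff, implies_true, and_true, List.Pairwise.nil]
    exact ⟨⟨okx_spec x01, okx_spec x02, okx_spec x03, okx_spec x04⟩, ⟨okx_spec x12, okx_spec x13, okx_spec x14⟩,
      ⟨okx_spec x23, okx_spec x24⟩, okx_spec x34⟩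

theorem nb : Nat.beq (winv (nw zw false) 1) (winv (nw [] false) 1) = false := by decide +kernel

theorem z_ne : z ≠ 1 := by
  intro h
  have h1 : word zw = word [] := by
    rw [word_nil]
    exact congrArg Subtype.val h
  have h2 : winv (nw zw false) 1 = winv (nw [] false) 1 := by
    rw [winv_eq (wok zw false), winv_eq (wok [] false), ← rho_word, ← rho_word, h1]
  exact Nat.ne_of_beq_eq_false nb h2

/-! ### indices -/

section Act

variable {X : Type*} [Group X] {A : Type u} [AddCommGroup A] [DistribMulAction X A]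

/-- nontrivial elements of a simple group act nontrivially -/
theorem cm_ne [IsSimpleGroup X] [Nontrivial A] (hfix : ∀ x : A, (∀ g : X, g • x = x) → x = 0) {z : X} (hz : z ≠ 1) :
    cm A z ≠ ⊥ := by
  intro h
  let φ : X →* AddMonoid.End A := DistribMulAction.toAddMonoidEnd X A
  have hφ : ∀ (g : X) (x : A), φ g x = g • x := fun _ _ => rfl
  have hz' : z ∈ φ.ker := by
    rw [MonoidHom.mem_ker]
    ext x
    have h1 : x - z • x ∈ cm A z := ⟨x, rfl⟩
    rw [h, AddSubgroup.mem_bot, sub_eq_zero] at h1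
    exact h1.symm
  have hk : φ.ker = ⊤ := by
    rcases (inferInstance : φ.ker.Normal).eq_bot_or_eq_top with h1 | h1
    · rw [h1, Subgroup.mem_bot] at hz'
      exact absurd hz' hz
    · exact h1
  obtain ⟨x, y, hxy⟩ := (inferInstance : Nontrivial A)
  have key : ∀ x : A, x = 0 := fun x => hfix x fun g => by
    have h1 : g ∈ φ.ker := by rw [hk]; trivial
    rw [MonoidHom.mem_ker] at h1
    rw [← hφ, h1]; rfl
  exact hxy ((key x).trans (key y).symm)

theorem inj3r {r : ℕ} (hr : r.Prime) (h3 : r ≠ 3) (hexp : ∀ x : A, r • x = 0) (x : A) (h : x + x + x = 0) : x = 0 := by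
  have h1 : (3 : ℕ) • x = 0 := by rw [← h]; abel
  have h2 : addOrderOf x ∣ Nat.gcd 3 r := Nat.dvd_gcd (addOrderOf_dvd_of_nsmul_eq_zero h1) (addOrderOf_dvd_of_nsmul_eq_zero (hexp x))
  rw [(Nat.coprime_primes Nat.prime_three hr).2 h3.symm, Nat.dvd_one, AddMonoid.addOrderOf_eq_one_iff] at h2
  exact h2

end Act

section Idx

variable {A : Type u} [AddCommGroup A] [Finite A] [DistribMulAction Fi24' A]

/-- **class `3B`, `r ≠ 3`** -/
theorem i3B [Nontrivial A] {r : ℕ} (hr : r.Prime) (h3 : r ≠ 3) (hexp : ∀ x : A, r • x = 0)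
    (hfix : ∀ x : A, (∀ g : Fi24', g • x = x) → x = 0) : 2 ^ 486 ≤ (fx A z).index := by
  have : IsSimpleGroup Fi24' := Cfsg.Agent.Schreier.FiTwentyFour.simple
  have h := chain_le (A := A) ls (cm A z) tower (fun x hx => cm3 tower.z3 hx) (fun x _ h => inj3r hr h3 hexp x h)
    (fun x hx => smul_cm rfl hx) (fun p hp x hx => ⟨smul_cm (tower.uz p hp) hx, smul_cm (tower.vz p hp) hx⟩)
    (cm_ne hfix z_ne)
  rw [index_fx]
  refine le_trans (le_of_eq ?_) h
  show 2 ^ 486 = 4 ^ 3 ^ 5
  rw [show (4 : ℕ) = 2 ^ 2 by norm_num, ← pow_mul]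
  norm_num

/-- **class `3A`, `r ≠ 3`** -/
theorem i3A [Nontrivial A] {r : ℕ} (hr : r.Prime) (h3 : r ≠ 3) (hexp : ∀ x : A, r • x = 0)
    (hfix : ∀ x : A, (∀ g : Fi24', g • x = x) → x = 0) : 2 ^ 324 ≤ (fx A (W u0 eu0)).index := by
  have : IsSimpleGroup Fi24' := Cfsg.Agent.Schreier.FiTwentyFour.simple
  have h := index_ge (A := A) (u := W u0 eu0) (v := W v0 ev0)
    (L := [(W u1 eu1, W v1 ev1), (W u2 eu2, W v2 ev2), (W u3 eu3, W v3 ev3), (W u4 eu4, W v4 ev4)]) tower (cm_ne hfix z_ne)
    (fun x h => inj3r hr h3 hexp x h)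
  refine le_trans (le_of_eq ?_) h
  show 2 ^ 324 = 4 ^ (2 * 3 ^ 4)
  rw [show (4 : ℕ) = 2 ^ 2 by norm_num, ← pow_mul]
  norm_num

end Idx

end Cfsg.Agent.H597.S8.E3
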