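import Cfsg.Agent.H597.S8.EThree
import Cfsg.Agent.H840.Lk

/-!
# `Fi24'`: indices of products of two transpositions (helper597, for S4908)

`nc a b` : the index of the fixed points of `a b`, `a, b` transpositions, depends only on whether `a, b` commute;
`3B = 3A 3A = 2A 2A 2A`, `2A = 3A 3A`.
-/

set_option autoImplicit false
set_option maxRecDepth 100000
set_option exponentiation.threshold 5000
set_option linter.unusedSectionVars false

namespace Cfsg.Agent.H597.S8.E3

open Cfsg Cfsg.Agent.Lib.PermNet Cfsg.Agent.Lib.PermNetPt Cfsg.Agent.Fischer.Fi24RepDef Cfsg.Agent.Fischer.Fi24Rep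
open Cfsg.Agent.Fischer.Fi24Spider (word_append word_cons word_nil)
open Cfsg.Agent.Fischer.Fi24Final (sgn)
open Cfsg.Agent.R08.FiTwentyFour (L mem_commutator_iff sgn_L gen_mem_L mul_mem_commutator sq_L conj_mem_L)
open Cfsg.Agent.KFacts.FiTF.Pts Cfsg.Agent.KFacts.FiTF.FixMask
open Cfsg.Agent.H840.Wd
open Cfsg.Agent.H320.SD Cfsg.Agent.H30.S8
open Cfsg.Spor (Fi24 Fi24')
open Cfsg.Spor.Fi24 (Gen)

universe u

/-- the product of two transpositions in `Fi24'` -/
noncomputable def pr {a b : Fi24} (ha : a ∈ L) (hb : b ∈ L) : Fi24' := ⟨a * b, mul_mem_commutator ha hb⟩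

section Idx

variable {A : Type u} [AddCommGroup A] [Finite A] [DistribMulAction Fi24' A]

theorem idx_conj {x y : Fi24'} {g : Fi24} (hg : g ∈ commutator Fi24) (h : g * (x : Fi24) * g⁻¹ = y) :
    (fx A x).index = (fx A y).index := by
  have e : y = (⟨g, hg⟩ : Fi24') * x * (⟨g, hg⟩ : Fi24')⁻¹ := Subtype.ext h.symm
  rw [e, index_conj]

/-- commuting transpositions -/
theorem cc_eq {a b a' b' : Fi24} (ha : a ∈ L) (hb : b ∈ L) (ha' : a' ∈ L) (hb' : b' ∈ L) (hne : a ≠ b) (hc : Commute a b)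
    (hne' : a' ≠ b') (hc' : Commute a' b') : (fx A (pr ha hb)).index = (fx A (pr ha' hb')).index := by
  obtain ⟨g, hg, h1, h2⟩ := Cfsg.Agent.R08.FiTwentyFour.trans2 ha hb ha' hb' hne hc hne' hc'
  refine idx_conj hg ?_
  show g * (a * b) * g⁻¹ = a' * b'
  rw [← h1, ← h2]; group

theorem comm_bl : Commute (gen .b) (gen .l) := by
  have h : word ([.b] ++ [.l]) = word ([.l] ++ [.b]) := eq_of_eqB (by decide +kernel)
  rw [word_append, word_append, word_single, word_single] at h
  exact h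

theorem comm_bk : Commute (gen .b) (gen .k) := by
  have h : word ([.b] ++ [.k]) = word ([.k] ++ [.b]) := eq_of_eqB (by decide +kernel)
  rw [word_append, word_append, word_single, word_single] at h
  exact h

/-- transitivity of `Fi24'` on the noncommuting pairs -/
theorem noncomm_trans' {a b a' b' : Fi24} (ha : a ∈ L) (hb : b ∈ L) (ha' : a' ∈ L) (hb' : b' ∈ L) (hn : ¬ Commute a b)
    (hn' : ¬ Commute a' b') : ∃ g ∈ commutator Fi24, g * a * g⁻¹ = a' ∧ g * b * g⁻¹ = b' := by
  obtain ⟨g, h1, h2⟩ := Cfsg.Agent.H840.Lk.noncomm_trans ha hb (gen_mem_L .l) (gen_mem_L .k) hn Cfsg.Agent.H840.Lk.not_comm_lk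
  obtain ⟨k, k1, k2⟩ := Cfsg.Agent.H840.Lk.noncomm_trans (gen_mem_L .l) (gen_mem_L .k) ha' hb' Cfsg.Agent.H840.Lk.not_comm_lk hn'
  have hsb : sgn (gen .b) = -1 := sgn_L (gen_mem_L .b)
  rcases Int.units_eq_one_or (sgn (k * g)) with hs | hs
  · refine ⟨k * g, mem_commutator_iff.2 hs, ?_, ?_⟩
    · rw [← k1, ← h1]; group
    · rw [← k2, ← h2]; group
  · refine ⟨k * gen .b * g, mem_commutator_iff.2 ?_, ?_, ?_⟩
    · rw [map_mul, map_mul, hsb]
      rw [map_mul] at hs
      rw [mul_neg_one, neg_mul, hs, neg_neg]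
    · have e : k * gen .b * g * a * (k * gen .b * g)⁻¹ = k * (gen .b * (g * a * g⁻¹) * (gen .b)⁻¹) * k⁻¹ := by group
      rw [e, h1]
      show k * (gen .b * gen .l * (gen .b)⁻¹) * k⁻¹ = a'
      rw [comm_bl.eq, mul_inv_cancel_right]
      exact k1
    · have e : k * gen .b * g * b * (k * gen .b * g)⁻¹ = k * (gen .b * (g * b * g⁻¹) * (gen .b)⁻¹) * k⁻¹ := by group
      rw [e, h2]
      show k * (gen .b * gen .k * (gen .b)⁻¹) * k⁻¹ = b'
      rw [comm_bk.eq, mul_inv_cancel_right]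
      exact k2

/-- noncommuting transpositions -/
theorem nc_eq {a b a' b' : Fi24} (ha : a ∈ L) (hb : b ∈ L) (ha' : a' ∈ L) (hb' : b' ∈ L) (hn : ¬ Commute a b)
    (hn' : ¬ Commute a' b') : (fx A (pr ha hb)).index = (fx A (pr ha' hb')).index := by
  obtain ⟨g, hg, h1, h2⟩ := noncomm_trans' ha hb ha' hb' hn hn'
  refine idx_conj hg ?_
  show g * (a * b) * g⁻¹ = a' * b'
  rw [← h1, ← h2]; group

/-! ### words of transpositions -/

theorem mem_T (w : List Gen) (x : Gen) : word (w ++ x :: w.reverse) ∈ L := by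
  have h1 : word (w ++ x :: w.reverse) = word w * gen x * (word w)⁻¹ := by
    rw [word_append, word_cons, word_reverse]
    group
  rw [h1]
  exact conj_mem_L (gen_mem_L x) _

/-- two words do not commute -/
theorem not_comm {v w : List Gen} (p : ℕ)
    (h : Nat.beq (winv (nw (v ++ w) false) p) (winv (nw (w ++ v) false) p) = false) : ¬ Commute (word v) (word w) := by
  intro hc
  refine Nat.ne_of_beq_eq_false h ?_
  rw [winv_eq (wok _ false), winv_eq (wok _ false), ← rho_word, ← rho_word, word_append, word_append, hc.eq]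

theorem comm_of {v w : List Gen} (h : eqB (v ++ w) (w ++ v) = true) : Commute (word v) (word w) := by
  show word v * word w = word w * word v
  rw [← word_append, ← word_append, eq_of_eqB h]

theorem ne_of {v w : List Gen} (p : ℕ) (h : Nat.beq (winv (nw v false) p) (winv (nw w false) p) = false) :
    word v ≠ word w := by
  intro hc
  refine Nat.ne_of_beq_eq_false h ?_
  rw [winv_eq (wok _ false), winv_eq (wok _ false), ← rho_word, ← rho_word, hc]

def t1 : List Gen := [.c, .d, .h, .i, .e, .d, .h, .f, .e, .d, .c, .d, .e, .f, .h, .d, .e, .i, .h, .d, .c]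
def t4 : List Gen := [.d, .h, .i, .e, .d, .h, .f, .e, .d, .c, .b, .c, .d, .e, .f, .h, .d, .e, .i, .h, .d]
def t5 : List Gen := [.d, .c, .b, .c, .d]

theorem m1 : word t1 ∈ L := mem_T [.c, .d, .h, .i, .e, .d, .h, .f, .e, .d] .c
theorem m4 : word t4 ∈ L := mem_T [.d, .h, .i, .e, .d, .h, .f, .e, .d, .c] .b
theorem m5 : word t5 ∈ L := mem_T [.d, .c] .b
theorem mb : word [.b] ∈ L := mem_T [] .b
theorem mc : word [.c] ∈ L := mem_T [] .c
theorem md : word [.d] ∈ L := mem_T [] .d
theorem mcd : word [.d, .c, .d] ∈ L := mem_T [.d] .c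
theorem mcb : word [.c, .b, .c] ∈ L := mem_T [.c] .b

/-- `3B = 3A 3A` -/
theorem z_le_nc {a b : Fi24} (ha : a ∈ L) (hb : b ∈ L) (hn : ¬ Commute a b) :
    (fx A z).index ≤ (fx A (pr ha hb)).index ^ 2 := by
  have e : z = pr m1 mb * pr mc m4 := by
    apply Subtype.ext
    show word zw = (word t1 * word [.b]) * (word [.c] * word t4)
    rw [← word_append, ← word_append, ← word_append]
    exact eq_of_eqB (by decide +kernel)
  have h1 : (fx A (pr m1 mb)).index = (fx A (pr ha hb)).index :=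
    nc_eq _ _ _ _ (not_comm (v := t1) (w := [.b]) 2 (by decide +kernel)) hn
  have h2 : (fx A (pr mc m4)).index = (fx A (pr ha hb)).index :=
    nc_eq _ _ _ _ (not_comm (v := [.c]) (w := t4) 2 (by decide +kernel)) hn
  rw [e]
  refine (index_mul _ _).trans ?_
  rw [h1, h2, _root_.sq]

/-- `3B = 2A 2A 2A` -/
theorem z_le_cc {a b : Fi24} (ha : a ∈ L) (hb : b ∈ L) (hne : a ≠ b) (hc : Commute a b) :
    (fx A z).index ≤ (fx A (pr ha hb)).index ^ 3 := by
  have e : z = pr m1 md * (pr mcd mcb * pr m5 m4) := by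
    apply Subtype.ext
    show word zw = (word t1 * word [.d]) * ((word [.d, .c, .d] * word [.c, .b, .c]) * (word t5 * word t4))
    rw [← word_append, ← word_append, ← word_append, ← word_append, ← word_append]
    exact eq_of_eqB (by decide +kernel)
  have h1 : (fx A (pr m1 md)).index = (fx A (pr ha hb)).index :=
    cc_eq _ _ _ _ (ne_of (v := t1) (w := [.d]) 2 (by decide +kernel)) (comm_of (v := t1) (w := [.d]) (by decide +kernel)) hne hc
  have h2 : (fx A (pr mcd mcb)).index = (fx A (pr ha hb)).index :=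
    cc_eq _ _ _ _ (ne_of (v := [.d, .c, .d]) (w := [.c, .b, .c]) 2 (by decide +kernel))
      (comm_of (v := [.d, .c, .d]) (w := [.c, .b, .c]) (by decide +kernel)) hne hc
  have h3 : (fx A (pr m5 m4)).index = (fx A (pr ha hb)).index :=
    cc_eq _ _ _ _ (ne_of (v := t5) (w := t4) 2 (by decide +kernel)) (comm_of (v := t5) (w := t4) (by decide +kernel)) hne hc
  rw [e]
  refine (index_mul _ _).trans ?_
  refine (Nat.mul_le_mul_left _ (index_mul _ _)).trans ?_
  rw [h1, h2, h3]
  exact le_of_eq (by ring)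

/-- `2A = 3A 3A` -/
theorem cc_le_nc {a b a' b' : Fi24} (ha : a ∈ L) (hb : b ∈ L) (hne : a ≠ b) (hc : Commute a b) (ha' : a' ∈ L)
    (hb' : b' ∈ L) (hn : ¬ Commute a' b') : (fx A (pr ha hb)).index ≤ (fx A (pr ha' hb')).index ^ 2 := by
  have hac : Commute (word [.b]) (word [.d]) := comm_of (v := [.b]) (w := [.d]) (by decide +kernel)
  have hne' : word [.b] ≠ word [.d] := ne_of (v := [.b]) (w := [.d]) 2 (by decide +kernel)
  have h0 : (fx A (pr ha hb)).index = (fx A (pr mb md)).index := cc_eq _ _ _ _ hne hc hne' hac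
  have e : pr mb md = pr mb mc * pr mc md := by
    apply Subtype.ext
    show word [.b] * word [.d] = (word [.b] * word [.c]) * (word [.c] * word [.d])
    rw [← word_append, ← word_append, ← word_append, ← word_append]
    exact eq_of_eqB (by decide +kernel)
  have h1 : (fx A (pr mb mc)).index = (fx A (pr ha' hb')).index :=
    nc_eq _ _ _ _ (not_comm (v := [.b]) (w := [.c]) 2 (by decide +kernel)) hn
  have h2 : (fx A (pr mc md)).index = (fx A (pr ha' hb')).index :=
    nc_eq _ _ _ _ (not_comm (v := [.c]) (w := [.d]) 2 (by decide +kernel)) hn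
  rw [h0, e]
  refine (index_mul _ _).trans ?_
  rw [h1, h2, _root_.sq]

/-- **class `3A`, `r ≠ 3`** (`3A` : product of two noncommuting transpositions) -/
theorem i_nc [Nontrivial A] {r : ℕ} (hr : r.Prime) (h3 : r ≠ 3) (hexp : ∀ x : A, r • x = 0)
    (hfix : ∀ x : A, (∀ g : Fi24', g • x = x) → x = 0) {a b : Fi24} (ha : a ∈ L) (hb : b ∈ L) (hn : ¬ Commute a b) :
    2 ^ 243 ≤ (fx A (pr ha hb)).index := by
  have h1 := (i3B hr h3 hexp hfix).trans (z_le_nc ha hb hn)
  rw [show 486 = 243 * 2 by norm_num, pow_mul] at h1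
  exact (Nat.pow_le_pow_iff_left (by norm_num)).1 h1

/-- **class `2A`, `r ≠ 3`** (`2A` : product of two commuting transpositions) -/
theorem i_cc [Nontrivial A] {r : ℕ} (hr : r.Prime) (h3 : r ≠ 3) (hexp : ∀ x : A, r • x = 0)
    (hfix : ∀ x : A, (∀ g : Fi24', g • x = x) → x = 0) {a b : Fi24} (ha : a ∈ L) (hb : b ∈ L) (hne : a ≠ b)
    (hc : Commute a b) : 2 ^ 162 ≤ (fx A (pr ha hb)).index := by
  have h1 := (i3B hr h3 hexp hfix).trans (z_le_cc ha hb hne hc)
  rw [show 486 = 162 * 3 by norm_num, pow_mul] at h1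
  exact (Nat.pow_le_pow_iff_left (by norm_num)).1 h1

end Idx

/-- **[CONJ]** products of transpositions -/
theorem conj_pr {d e d' e' : Fi24} (hd : d ∈ L) (he : e ∈ L) (hd' : d' ∈ L) (he' : e' ∈ L) (hne : d ≠ e) (hne' : d' ≠ e')
    (h : d * e = e * d ↔ d' * e' = e' * d') : ∃ g : Fi24', (g : Fi24) * (d * e) * (g : Fi24)⁻¹ = d' * e' := by
  by_cases hc : Commute d e
  · obtain ⟨g, hg, h1, h2⟩ := Cfsg.Agent.R08.FiTwentyFour.trans2 hd he hd' he' hne hc hne' (h.1 hc)
    refine ⟨⟨g, hg⟩, ?_⟩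
    rw [← h1, ← h2]
    show g * (d * e) * g⁻¹ = _
    group
  · obtain ⟨g, hg, h1, h2⟩ := noncomm_trans' hd he hd' he' hc (fun h' => hc (h.2 h'))
    refine ⟨⟨g, hg⟩, ?_⟩
    rw [← h1, ← h2]
    show g * (d * e) * g⁻¹ = _
    group

end Cfsg.Agent.H597.S8.E3
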